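import Cfsg.Agent.H6.Cert
import Cfsg.Agent.H6.Fi24.Pres
import Cfsg.Agent.H6.Fi24.C2.B0
import Cfsg.Agent.H6.Fi24.C2.B1
import Cfsg.Agent.H6.Fi24.C2.B2
import Cfsg.Agent.H6.Fi24.C2.B3

set_option autoImplicit false
set_option maxRecDepth 100000
set_option Elab.async false

namespace Cfsg.H6.Fi24.C2

def sg : List (List ℕ) := [[], [12], [11], [1], [2], [3], [4], [5], [6], [8], [9], [12], [12], [11], [11], [1], [1], [2], [2], [3], [3], [4], [4], [5], [5], [6], [6], [8], [8]]

def BL : List ℕ := [0x10b, 0x20d, 0x30f, 0x411, 0x513, 0x615, 0x717, 0x819, 0x91b, 0xa010a01, 0xa020a02, 0xa030a03, 0xa040a04, 0xa050a05, 0xa060a06, 0xa070a07, 0xa080a08, 0x9010901, 0x9020902, 0x9030903, 0x9040904, 0x9050905, 0x9070907, 0x9080908, 0x90a090a090a, 0x6010601, 0x6020602, 0x6030603, 0x6040604, 0x6080608, 0x60a060a, 0x60906090609, 0x5010501, 0x5020502, 0x5030503, 0x5080508, 0x5090509, 0x50a050a, 0x50605060506, 0x7010701, 0x7020702, 0x7030703, 0x7040704, 0x7090709, 0x70a070a, 0x70607060706, 0x4010401, 0x4020402, 0x4060406, 0x4080408, 0x4090409, 0x40a040a, 0x40504050405,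 0x7050705, 0x8010801, 0x8020802, 0x8030803, 0x8040804, 0x8060806, 0x8090809, 0x80a080a, 0x80708070807, 0x3010301, 0x3050305, 0x3060306, 0x3080308, 0x3090309, 0x30a030a, 0x30403040304, 0x60506050605, 0x60706070607, 0x8050805, 0x2040204, 0x2050205, 0x2060206, 0x2080208, 0x2090209, 0x20a020a, 0x20302030203, 0x90609060906, 0x1030103, 0x1040104, 0x1050105, 0x1060106, 0x1080108, 0x1090109, 0x10a010a, 0x10201020102, 0x5070507, 0x50405040504, 0x70807080708, 0xa090a090a09, 0x4070407, 0x40304030403, 0x3070307, 0x30203020302, 0x2070207, 0x20102010201, 0x1070107, 0x3040506070809030405060708090304050607080903040506070809030405060708090304050607080903040506070809030405060708090304050607080901, 0x1090807060504030908070605040309080706050403090807060504030908070605040309080706050403090807060504030908070605040309080706050403, 0x505, 0x101, 0x404, 0x707, 0x303, 0x606, 0x909, 0x808, 0x202, 0xa0a, 0x0]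

def Sub : List (List ℕ) := [[12], [11], [1], [2], [3], [4], [5], [6], [8]]

theorem hA : prepA 954154417186781389109644624128 Fi24.R sg 730877630508623121816105603200201502214911215887110255979425565901056 BL Sub get gd = true := by decide +kernel

theorem hw : allR (okW BL gwh) 0 191 = true := by decide +kernel

theorem hb : ∀ b, 4 ≤ b → b < 5901 → blk get gs (gwB gwh 191) gd 730877630508623121816105603200201502214911215887110255979425565901056 b = true :=
  (range_join (range_join (range_join (allR_range b0 (by norm_num : 4 + 644 = 648)) (allR_range b1 (by norm_num : 648 + 657 = 1305))) (range_join (allR_range b2 (by norm_num : 1305 + 672 = 1977)) (range_join (allR_range b3 (by norm_num : 1977 + 674 = 2651)) (allR_range b4 (by norm_num : 2651 + 648 = 3299))))) (range_join (range_join (allR_range b5 (by norm_num : 3299 + 633 = 3932)) (allR_range b6 (by norm_num : 3932 + 631 = 4563))) (range_join (allR_range b7 (by norm_num : 4563 + 635 = 5198)) (range_join (allR_range b8 (by norm_num : 5198 + 625 = 5823)) (allR_range b9 (by norm_num : 5823 + 78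 = 5901))))))

def X : List (List ℕ) := [[12], [11], [1], [2], [3], [4], [5], [6], [8], [9]]

theorem hC : prepC sg 730877630508623121816105603200201502214911215887110255979425565901056 X 10 28431 445 = true := by decide +kernel

theorem hc : ∀ t, 0 ≤ t → t < 10 * 445 → clo get gc 28431 377920 445 t = true :=
  (range_join (allR_range c0 (by norm_num : 0 + 1562 = 1562)) (range_join (allR_range c1 (by norm_num : 1562 + 1562 = 3124)) (allR_range c2 (by norm_num : 3124 + 1326 = 4450))))

theorem cover {G : Type*} [Group G] {ev : ℕ → G} (hev : Good ev 954154417186781389109644624128) (hR : Rels ev Fi24.R) :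
    Cover (gen ev Sub) (gen ev X) 28431 :=
  cert_cover hev hR hA hC hw hb (by norm_num) hc


end Cfsg.H6.Fi24.C2
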